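import Cfsg.Agent.Lib.Helper12.TCG.J1x266.TabT
import Cfsg.Agent.Lib.Helper12.TC.Fn.LowerParts

/-! checks for the lower bound of the order, part 0 (generated, helper12) -/

set_option autoImplicit false
set_option maxRecDepth 100000

namespace Cfsg.Agent.Lib.Helper12.TCG.J1x266

open Cfsg.Agent.Lib.Helper12.TC Cfsg.Agent.Lib.Helper12.TCG

theorem hs7_0 : Fn.slpColK TT 7 [6, 5, 6, 6, 5, 6, 3, 6, 4, 5, 6, 2, 1, 2, 2, 2, 1, 2, 2, 0, 1, 1, 2] 0 266 = true := by decide +kernel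

theorem hs6_0 : Fn.slpColK TT 6 [3, 5, 3, 4, 5, 3, 1, 1, 0, 1, 2, 2, 0, 0, 2, 2, 1, 0] 0 266 = true := by decide +kernel

theorem hs5_0 : Fn.slpColK TT 5 [4, 4, 4, 4, 3, 2, 0, 2, 0, 1, 1, 2, 0, 1, 0, 2, 0] 0 266 = true := by decide +kernel

theorem hs3_0 : Fn.slpColK TT 3 [0, 2, 0, 1, 0, 1, 1, 1, 2, 1, 0, 0] 0 266 = true := by decide +kernel

theorem hs4_0 : Fn.slpColK TT 4 [1, 0, 1, 1, 2, 0, 2, 1, 1, 2, 0, 2] 0 266 = true := by decide +kernel

/-- a part of a tree -/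
def tree0_0 : List (ℕ × ℕ × ℕ) :=
  [(93, 0, 3), (90, 0, 4), (102, 93, 4), (25, 93, 5), (62, 93, 6), (71, 93, 7), (163, 90, 3), (234, 90, 4), (108, 90, 5), (80, 90, 6), (130, 90, 7), (134, 102, 3), (1, 102, 4), (131, 102, 6), (4, 102, 7), (119, 25, 3), (3, 25, 4), (58, 25, 5), (15, 25, 6), (18, 25, 7), (173, 62, 3), (68, 62, 4), (52, 62, 5), (79, 62, 7), (217, 71, 3), (161, 71, 4), (118, 71, 5), (45, 71, 7), (226, 163, 4), (133, 163, 5), (183, 163, 6), (200, 234, 3), (259, 234, 4), (208, 234, 5), (210, 234, 6), (179, 234, 7), (157, 108, 3), (55, 108, 4), (23, 108, 5), (16, 108, 6), (104, 108, 7), (103, 80, 3), (47, 80, 4), (26, 80, 5), (14, 80, 6), (41, 80, 7), (87, 130, 3), (197, 130, 4), (40, 130, 5), (63, 130, 6), (39, 130, 7), (2, 134, 4), (188, 134, 5), (153, 134, 6), (182, 134, 7), (33, 1, 3), (56, 1, 4), (237, 131, 3), (232, 131, 4), (81, 131, 5), (31, 131, 7), (248, 4, 3), (37, 4, 4), (34, 4, 5), (6, 4, 6),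 (5, 119, 4), (78, 119, 6), (126, 119, 7), (175, 3, 3), (144, 3, 4), (111, 3, 7), (143, 58, 3), (114, 58, 4), (57, 58, 5), (92, 58, 6), (89, 58, 7), (170, 15, 3), (21, 15, 6), (220, 18, 3), (29, 18, 4), (17, 18, 5), (76, 18, 6), (122, 18, 7), (225, 173, 6), (203, 173, 7), (251, 68, 4), (215, 52, 4), (46, 52, 6), (125, 52, 7), (61, 79, 3), (168, 79, 4), (86, 79, 6), (194, 217, 5), (137, 217, 6), (176, 217, 7), (192, 161, 3), (214, 161, 4), (212, 161, 5), (140, 161, 6), (116, 118, 4), (129, 45, 5), (106, 45, 6), (74, 45, 7), (216, 226, 3), (218, 226, 6), (186, 226, 7), (7, 133, 3), (235, 133, 4), (181, 133, 5), (189, 133, 7), (241, 183, 5), (151, 183, 7), (261, 200, 4), (211, 200, 7), (260, 259, 4), (258, 259, 5), (265, 259, 7), (158, 208, 3), (228, 208, 4), (227, 208, 5), (124, 210, 3), (160, 210, 5), (142, 210, 6), (99, 179, 3), (193, 179, 4), (177, 157, 6), (205, 157, 7), (174, 55, 3), (96, 55, 5), (11, 55, 7), (120,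 23, 3), (149, 23, 4), (19, 23, 5), (94, 23, 6), (66, 23, 7), (199, 16, 3), (43, 16, 4), (30, 16, 5), (36, 16, 7), (148, 104, 3), (9, 103, 6), (97, 103, 7), (54, 47, 3), (115, 47, 4), (88, 47, 6), (60, 47, 7), (178, 26, 3), (24, 26, 5), (109, 26, 6), (69, 26, 7), (51, 14, 3), (84, 14, 4), (12, 14, 5), (28, 41, 3), (44, 41, 6), (117, 41, 7), (73, 87, 7), (198, 197, 3), (138, 197, 5), (195, 197, 7), (100, 40, 3), (38, 40, 5), (35, 40, 6), (132, 40, 7), (27, 63, 7), (70, 39, 3), (113, 39, 4), (42, 39, 5), (67, 39, 7), (159, 188, 3), (238, 188, 6), (207, 188, 7), (171, 153, 6), (263, 182, 3), (91, 182, 4), (167, 182, 6), (59, 33, 4), (243, 56, 3), (8, 56, 7), (249, 232, 4), (150, 232, 5), (209, 232, 6), (95, 81, 6), (75, 81, 7), (72, 31, 5), (262, 34, 4), (128, 34, 7), (172, 6, 4), (77, 6, 7), (105, 5, 6), (50, 78, 3), (196, 78, 4), (110, 78, 5), (107, 126, 6), (112, 126, 7), (221, 144, 5), (219, 143, 6), (224, 143, 7),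 (180, 114, 3), (32, 57, 7), (204, 92, 3), (213, 89, 3), (146, 89, 4), (64, 89, 5), (206, 170, 6), (184, 170, 7), (123, 21, 5), (185, 220, 5), (233, 220, 7), (22, 29, 6), (10, 17, 5), (165, 76, 3), (65, 76, 4), (127, 122, 4), (156, 225, 7), (240, 203, 3), (222, 251, 4), (244, 251, 7), (98, 215, 3), (254, 125, 3), (162, 168, 3), (136, 86, 3), (247, 86, 4), (229, 137, 7), (49, 176, 3), (256, 176, 4), (187, 176, 5), (191, 176, 7), (190, 192, 5), (166, 214, 7), (257, 212, 3), (85, 116, 7), (82, 106, 5), (13, 106, 7), (250, 74, 4), (164, 218, 5), (139, 218, 7), (242, 181, 3), (141, 181, 5), (230, 181, 6), (202, 189, 5), (223, 241, 6), (236, 151, 3), (152, 151, 6), (154, 211, 6), (255, 265, 5), (239, 158, 4), (245, 227, 3), (145, 160, 6), (121, 99, 7), (147, 177, 7), (246, 205, 3), (201, 96, 3), (83, 96, 6), (101, 11, 5), (53, 120, 6), (264, 19, 4), (48, 43, 3), (135, 148, 5), (231, 97, 4), (20, 117, 7), (155, 198, 6), (252,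 243, 7), (253, 249, 5), (169, 221, 6)]

theorem ht0_0 : Fn.treePartK TT [3, 4, 5, 6, 7] tree0_0 1
    (fun s => Nat.beq s 118571099379011784113736688648896417641748464297615937576404566024103044751294463) = true := by decide +kernel

/-- a part of a tree -/
def tree1_0 : List (ℕ × ℕ × ℕ) :=
  [(55, 1, 5), (2, 1, 6), (96, 55, 5), (116, 55, 6), (11, 55, 7), (61, 2, 5), (84, 2, 6), (76, 2, 7), (68, 96, 5), (83, 96, 6), (115, 96, 7), (90, 116, 5), (64, 116, 6), (85, 116, 7), (101, 11, 5), (119, 11, 6), (42, 11, 7), (79, 61, 5), (32, 61, 6), (107, 61, 7), (14, 84, 5), (70, 84, 7), (46, 76, 5), (122, 76, 6), (33, 68, 5), (93, 68, 6), (103, 68, 7), (128, 83, 5), (38, 83, 7), (92, 115, 5), (124, 115, 6), (26, 115, 7), (108, 90, 5), (80, 90, 6), (130, 90, 7), (66, 64, 5), (48, 64, 7), (17, 85, 7), (75, 101, 6), (5, 101, 7), (78, 119, 6), (126, 119, 7), (40, 42, 6), (41, 79, 5), (86, 79, 6), (27, 32, 5), (87, 32, 6), (35, 32,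 7), (74, 107, 5), (54, 107, 6), (12, 107, 7), (129, 14, 7), (69, 70, 5), (91, 70, 6), (110, 70, 7), (63, 46, 5), (19, 46, 6), (9, 46, 7), (18, 122, 6), (21, 122, 7), (29, 33, 7), (25, 93, 5), (62, 93, 6), (71, 93, 7), (97, 103, 7), (120, 128, 6), (52, 128, 7), (60, 38, 6), (59, 38, 7), (100, 92, 5), (81, 92, 7), (114, 124, 6), (24, 26, 5), (109, 26, 6), (23, 108, 5), (16, 108, 6), (104, 108, 7), (39, 130, 7), (112, 66, 5), (8, 66, 6), (127, 48, 5), (28, 48, 7), (10, 17, 5), (50, 17, 7), (77, 75, 6), (105, 5, 6), (44, 5, 7), (132, 40, 7), (117, 41, 7), (65, 86, 5), (3, 86, 6), (13, 27, 6), (22, 27, 7), (73, 87, 7), (47, 35, 5), (123, 35, 7), (58, 74, 6), (7, 74, 7), (37, 54, 7), (6, 69, 5), (113, 69, 7), (111, 91, 5), (34, 63, 6), (31, 9, 6), (118, 29, 7), (15, 25, 6), (4, 71, 6), (45, 71, 7), (121, 97, 5), (106, 97, 7), (67, 120, 5), (53, 120, 6), (125, 52, 7), (98, 59, 7), (88, 100, 7), (99, 81, 5), (95, 81, 6), (56,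 114, 7), (51, 24, 7), (94, 23, 6), (30, 16, 5), (36, 16, 7), (57, 104, 6), (102, 39, 6), (82, 127, 6), (20, 10, 6), (43, 105, 6), (89, 44, 6), (49, 22, 6), (72, 73, 6), (131, 118, 7)]

theorem ht1_0 : Fn.treePartK TT [5, 6, 7] tree1_0 2
    (fun s => Nat.beq s 10889035741470030830827987437816582766590) = true := by decide +kernel

theorem hgens1 : Fn.gensK TT 8 [0] [5, 6, 7] = true := by decide +kernel

theorem hgens0 : Fn.gensK TT 8 [] [3, 4, 5, 6, 7] = true := by decide +kernel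

/-- a part of a tree -/
def tree2_0 : List (ℕ × ℕ × ℕ) :=
  [(76, 2, 7), (84, 76, 7), (70, 84, 7), (110, 70, 7)]

theorem ht2_0 : Fn.treePartK TT [7] tree2_0 4
    (fun s => Nat.beq s 1298074234053258476313322612326404) = true := by decide +kernel

theorem hgens2 : Fn.gensK TT 8 [1, 0] [7] = true := by decide +kernel

end Cfsg.Agent.Lib.Helper12.TCG.J1x266
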