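import Cfsg.Agent.Lib.Helper12.TCG.J1x266.TabT

/-! relator checks for J1x266, part 0 (generated, helper12) -/

set_option autoImplicit false
set_option maxRecDepth 100000
set_option Elab.async false

namespace Cfsg.Agent.Lib.Helper12.TCG.J1x266

open Cfsg.Agent.Lib.Helper12.TC Cfsg.Agent.Lib.Helper12.TCG

theorem horbi0_0 : Fn.orbInvOneK TT [0] 0 1 = true := by decide +kernel

theorem horbi0_1 : Fn.orbInvOneK TT [2, 0, 2, 0, 1, 0, 1, 0, 2, 0, 1, 0, 2, 0, 1, 0, 1, 0, 2, 0, 1, 0, 2, 0, 2, 0, 1, 0, 1] 0 1 = true := by decide +kernel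

theorem horbi1_0 : Fn.orbInvOneK TT [0] 1 133 = true := by decide +kernel

theorem horbi1_1 : Fn.orbInvOneK TT [2, 0, 2, 0, 1, 0, 1, 0, 2, 0, 1, 0, 2, 0, 1, 0, 1, 0, 2, 0, 1, 0, 2, 0, 2, 0, 1, 0, 1] 1 133 = true := by decide +kernel

theorem horbi2_0 : Fn.orbInvOneK TT [0] 133 243 = true := by decide +kernel

theorem horbi2_1 : Fn.orbInvOneK TT [2, 0, 2, 0, 1, 0, 1, 0, 2, 0, 1, 0, 2, 0, 1, 0, 1, 0, 2, 0, 1, 0, 2, 0, 2, 0, 1, 0, 1] 133 243 = true := by decide +kernel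

theorem horbi3_0 : Fn.orbInvOneK TT [0] 243 254 = true := by decide +kernel

theorem horbi3_1 : Fn.orbInvOneK TT [2, 0, 2, 0, 1, 0, 1, 0, 2, 0, 1, 0, 2, 0, 1, 0, 1, 0, 2, 0, 1, 0, 2, 0, 2, 0, 1, 0, 1] 243 254 = true := by decide +kernel

theorem horbi4_0 : Fn.orbInvOneK TT [0] 254 266 = true := by decide +kernel

theorem horbi4_1 : Fn.orbInvOneK TT [2, 0, 2, 0, 1, 0, 1, 0, 2, 0, 1, 0, 2, 0, 1, 0, 1, 0, 2, 0, 1, 0, 2, 0, 2, 0, 1, 0, 1] 254 266 = true := by decide +kernel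

theorem hperm0_0 : permPartG 18364758544493064480 TT 0 tN 0 266 = true := by decide +kernel

theorem hperm1_0 : permPartG 18364758544493064480 TT 1 tN 0 266 = true := by decide +kernel

theorem hperm2_0 : permPartG 18364758544493064480 TT 2 tN 0 266 = true := by decide +kernel

theorem hm0 : Fn.marksK TT tN [([1], 3)] = true := by decide +kernel

theorem hm1 : Fn.marksK TT tN [([0, 1], 7)] = true := by decide +kernel

theorem hm2 : Fn.marksK TT tN [([0, 1, 0, 1, 0, 2, 0, 1, 0, 2, 0, 1, 0, 2], 5)] = true := by decide +kernel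

theorem hm3 : Fn.marksK TT tN [([0, 1, 0, 1, 0, 2, 0, 1, 0, 2, 0, 1, 0, 2, 0, 1, 0, 2, 0, 1, 0, 2, 0, 1, 0, 2, 0, 1, 0, 1, 0, 2, 0, 2], 2)] = true := by decide +kernel

theorem hm4 : Fn.marksK TT tN [([0], 2)] = true := by decide +kernel

theorem hm5 : Fn.marksK TT tN [([1, 2], 1)] = true := by decide +kernel

theorem hm6 : Fn.marksK TT tN [([2, 1], 1)] = true := by decide +kernel

theorem hm7 : Fn.marksK TT tN [([], 1)] = true := by decide +kernel

end Cfsg.Agent.Lib.Helper12.TCG.J1x266
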